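import Groth.Agent.Stk19b.HilbCurve.Field
import Groth.Agent.Desc19b.AmpleFpqc
import Groth.Agent.Canon15.ExtPowPull
import Groth.Agent.AbCohLib.OmegaCoh
import Groth.Agent.JacAJ27.Kappa
import Groth.Agent.KvbLam28.Basic
import Groth.Agent.PnCanon5.Duality
import Groth.Agent.DimLib.BaseChange
import Groth.Agent.PicLib.PicMonoid

/-!
# Del Pezzo surfaces and extensions of algebraically closed fields
-/

set_option autoImplicit false
set_option linter.style.haveILetI false
set_option backward.isDefEq.respectTransparency false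
set_option backward.isDefEq.respectTransparency.types false

universe u

open CategoryTheory CategoryTheory.Limits AlgebraicGeometry
open Groth.Agent

namespace Groth.Agent.DelPezzo19

variable {k : Type u} [Field k] {X : Scheme.{u}} (f : X ⟶ Spec (CommRingCat.of k))

theorem smoothOfRelativeDimension_of_dim [Smooth f] [IrreducibleSpace X] (n : ℕ)
    (hdim : topologicalKrullDim X = n) : SmoothOfRelativeDimension n f := by
  choose V m hxV hm using fun x => Unram17Lib.exists_smoothOfRelativeDimension f x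
  have h1 : ∀ x, m x = n := fun x => by
    have := hm x
    have h := Unram17Lib.localDim_of_smoothOfRelativeDimension k ((V x).ι ≫ f) (m x) ⟨x, hxV x⟩
    have := (V x).ι.isOpenEmbedding.quasiSober
    rw [AlgSpLib.localDim_eq_of_map (V x).ι.continuous (V x).ι.isOpenEmbedding.isOpenMap
      (V x).ι.isOpenEmbedding.generalizingMap (fun a a' _ e => (V x).ι.isOpenEmbedding.injective e) _] at h
    have h2 := GenSmoothLib.localDim_eq_topologicalKrullDim f ((V x).ι ⟨x, hxV x⟩)
    rw [h, hdim] at h2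
    exact_mod_cast h2
  refine IsZariskiLocalAtSource.of_iSup_eq_top (P := @SmoothOfRelativeDimension n) V ?_ fun x => ?_
  · exact eq_top_iff.2 fun x _ => TopologicalSpace.Opens.mem_iSup.2 ⟨x, hxV x⟩
  · have := hm x
    rwa [h1 x] at this

/-- The conditions on a geometric fibre descend along extensions of fields. -/
theorem descend_fibre [IsProper f] [Smooth f] {K : Type u} [Field K]
    {ι : Spec (CommRingCat.of K) ⟶ Spec (CommRingCat.of k)} {X' : Scheme.{u}} {π : X' ⟶ X}
    {f' : X' ⟶ Spec (CommRingCat.of K)} (H : IsPullback π f' f ι)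
    [IsIntegral X'] (hdim : topologicalKrullDim X' = 2)
    {ω' D' : X'.Modules} (hω' : Canon.IsTopDiff f' 2 ω') (hD' : ClSub.IsInverseOf D' ω')
    (hamp : CohB1.IsAmple D') :
    IsIntegral X ∧ topologicalKrullDim X = 2 ∧
      ∃ ω D : X.Modules, Canon.IsTopDiff f 2 ω ∧ ClSub.IsInverseOf D ω ∧ CohB1.IsAmple D := by
  haveI : Flat ι := CubeLib.flat_of_field _
  haveI : Surjective ι := ⟨fun x => ⟨IsLocalRing.closedPoint K, Subsingleton.elim (α := PrimeSpectrum k) _ _⟩⟩
  haveI : Surjective π := MorphismProperty.of_isPullback (P := @Surjective) H.flip inferInstance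
  haveI : ConnectedSpace X := π.surjective.connectedSpace π.continuous
  haveI : IsIntegral X := PnCanon5.isIntegral_of_smooth_connected f
  obtain ⟨φ, hφ⟩ := Spec.map_surjective ι
  have hX : topologicalKrullDim X = 2 := by
    letI : Algebra k K := φ.hom.toAlgebra
    have h := DimLib.topologicalKrullDim_bc f K
    have hι : Spec.map (CommRingCat.ofHom (algebraMap k K)) = ι := hφ
    rw [hι] at h
    rw [← h, ← hdim]
    exact IsHomeomorph.topologicalKrullDim_eq _ H.isoPullback.inv.homeomorph.isHomeomorph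
  haveI := smoothOfRelativeDimension_of_dim f 2 hX
  have hE2 := Canon15.isFinLocFreeOfRank_omega f 2
  have hE : FlatMod.IsFinLocFree (Omega.sheaf f) := fun x => ⟨_, 2, (hE2 x).choose_spec⟩
  obtain ⟨ω, -, hω⟩ := ExtPowEx28.exists_isExtPow hE 2
  have hωi := Canon15.isInvertible_of_isExtPow hE2 hω
  obtain ⟨d, hd⟩ := PicLib.PicM.exists_mul_eq_one (PicLib.PicM.of hωi)
  obtain ⟨D, hDi, rfl⟩ := PicLib.PicM.exists_eq_of d
  have hDω : ClSub.IsInverseOf D ω := by
    rw [mul_comm, PicLib.PicM.of_mul, PicLib.PicM.of_eq_one_iff] at hd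
    exact hd
  refine ⟨inferInstance, hX, ω, D, hω, hDω, ?_⟩
  obtain ⟨c⟩ := JacAJ27.nonempty_omega_bc H
  have h1 := AbCohLib.isExtPow_congr c (Canon15.isExtPow_pullback π hE2 hω)
  obtain ⟨e⟩ := KvbLam28.exists_iso_of_isExtPow h1 hω'
  let P := PicLoc.isInvertible_pullback π hωi
  let Q := PicLoc.isInvertible_pullback π hDi
  have hω'i : PicF.IsInvertible ω' := fun z => by
    obtain ⟨W, hz, ⟨a⟩⟩ := P z
    exact ⟨W, hz, ⟨(Scheme.Modules.restrictFunctor W.ι).mapIso e.symm ≪≫ a⟩⟩
  have hPω : PicLib.PicM.of P = PicLib.PicM.of hω'i := (PicLib.PicM.of_eq_iff _ _).2 ⟨e⟩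
  have h2 : PicLib.PicM.of hω'i * PicLib.PicM.of Q = 1 := by
    rw [← hPω, ← PicLib.PicM.pull_of π hωi, ← PicLib.PicM.pull_of π hDi, ← map_mul, hd, map_one]
  have h3 : PicLib.PicM.of hamp.1 * PicLib.PicM.of hω'i = 1 :=
    (PicLib.PicM.of_mul _ _).trans ((PicLib.PicM.of_eq_one_iff _).2 hD')
  obtain ⟨e'⟩ := (PicLib.PicM.of_eq_iff hamp.1 Q).1 (left_inv_eq_right_inv h3 h2)
  haveI : IsAffineHom H.isoPullback.inv := inferInstance
  refine Desc19b.isAmple_of_pullback f ι hDi ?_
  refine AmpleLib.isAmple_of_iso ?_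
    (AmpleLib.isAmple_pullback_of_isAffineHom H.isoPullback.inv (AmpleLib.isAmple_of_iso e' hamp))
  exact (Scheme.Modules.pullbackComp H.isoPullback.inv π).app D ≪≫
    (Scheme.Modules.pullbackCongr H.isoPullback_inv_fst).app D

end Groth.Agent.DelPezzo19
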